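import Mathlib.AlgebraicGeometry.Morphisms.QuasiCompact
import Mathlib.AlgebraicGeometry.Morphisms.Finite
import Mathlib.AlgebraicGeometry.Morphisms.Etale
import Mathlib.AlgebraicGeometry.Morphisms.UniversallyOpen
import Mathlib.AlgebraicGeometry.Morphisms.QuasiFinite
import Mathlib.RingTheory.Nilpotent.Lemmas
import Mathlib.Topology.NoetherianSpace
import Mathlib.Topology.Sober

/-!
# Generizations in open subsets of points of their closure
-/

set_option autoImplicit false
set_option linter.style.haveILetI false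
set_option backward.isDefEq.respectTransparency false

universe u

open CategoryTheory Limits AlgebraicGeometry TopologicalSpace

namespace Groth.Agent.FFInfty25

/-- A point of the closure of a basic open of an affine spectrum has a generization in it. -/
theorem exists_specializes_basicOpen {A : Type u} [CommRing A] (f : A) (p : PrimeSpectrum A)
    (hp : p ∈ closure (PrimeSpectrum.basicOpen f : Set (PrimeSpectrum A))) :
    ∃ q : PrimeSpectrum A, q ∈ PrimeSpectrum.basicOpen f ∧ q ⤳ p := by
  by_contra hne
  push Not at hne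
  have hnil : IsNilpotent (algebraMap A (Localization.AtPrime p.asIdeal) f) := by
    rw [nilpotent_iff_mem_prime]
    intro P hP
    by_contra hf
    refine hne ⟨P.under A, inferInstance⟩ ?_ ((PrimeSpectrum.le_iff_specializes _ p).1 ?_)
    · exact (PrimeSpectrum.mem_basicOpen f _).2 hf
    · intro a ha
      by_contra hap
      exact hP.ne_top (Ideal.eq_top_of_isUnit_mem _ ha
        (IsLocalization.map_units (Localization.AtPrime p.asIdeal) (⟨a, hap⟩ : p.asIdeal.primeCompl)))
  obtain ⟨n, hn⟩ := hnil
  rw [← map_pow, IsLocalization.map_eq_zero_iff p.asIdeal.primeCompl] at hn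
  obtain ⟨⟨s, hs⟩, hs0⟩ := hn
  obtain ⟨q, hq⟩ := mem_closure_iff.1 hp (PrimeSpectrum.basicOpen s) (PrimeSpectrum.basicOpen s).isOpen
    ((PrimeSpectrum.mem_basicOpen s p).2 hs)
  have h0 : s * f ^ n ∈ q.asIdeal := by
    rw [show s * f ^ n = 0 from hs0]; exact zero_mem _
  rcases q.isPrime.mem_or_mem h0 with h | h
  · exact (PrimeSpectrum.mem_basicOpen s q).1 hq.1 h
  · exact (PrimeSpectrum.mem_basicOpen f q).1 hq.2 (q.isPrime.mem_of_pow_mem n h)

variable {Z : Scheme.{u}}

/-- A point of the closure of a retrocompact open has a generization in it. -/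
theorem exists_specializes_retrocompact (D : Z.Opens) [QuasiCompact D.ι] (z : Z)
    (hz : z ∈ closure (D : Set Z)) : ∃ d ∈ D, d ⤳ z := by
  obtain ⟨V, hV, hzV, -⟩ := exists_isAffineOpen_mem_and_subset (X := Z) (x := z) (U := ⊤) trivial
  let e := hV.fromSpec
  obtain ⟨p, hp⟩ : z ∈ Set.range e := by rw [hV.range_fromSpec]; exact hzV
  have hpD : p ∈ closure (e ⁻¹' (D : Set Z)) := by
    rw [← e.isOpenEmbedding.isOpenMap.preimage_closure_eq_closure_preimage e.continuous]
    exact show e p ∈ closure (D : Set Z) from hp ▸ hz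
  have hc : IsCompact (e ⁻¹' (D : Set Z)) := by
    have h1 : IsCompact (D.ι ⁻¹' (V : Set Z)) := D.ι.isCompact_preimage hV.isCompact
    have h2 : IsCompact ((D : Set Z) ∩ V) := by
      have := h1.image D.ι.continuous
      rwa [Set.image_preimage_eq_inter_range, Scheme.Opens.range_ι, Set.inter_comm] at this
    refine e.isOpenEmbedding.isInducing.isCompact_iff.2 ?_
    rwa [Set.image_preimage_eq_inter_range, hV.range_fromSpec]
  obtain ⟨s, hs⟩ := (PrimeSpectrum.isCompact_isOpen_iff.1 ⟨hc, (D.2.preimage e.continuous)⟩ :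
    ∃ s : Finset Γ(Z, V), (PrimeSpectrum.zeroLocus (s : Set Γ(Z, V)))ᶜ = e ⁻¹' (D : Set Z))
  have hcover : e ⁻¹' (D : Set Z) = ⋃ f ∈ s, (PrimeSpectrum.basicOpen f : Set (PrimeSpectrum Γ(Z, V))) := by
    rw [← hs]
    ext q
    simp only [Set.mem_compl_iff, PrimeSpectrum.mem_zeroLocus, Set.not_subset, Set.mem_iUnion,
      SetLike.mem_coe, PrimeSpectrum.mem_basicOpen, exists_prop]
  rw [hcover] at hpD
  have hpD' : p ∈ ⋃ f ∈ s, closure (PrimeSpectrum.basicOpen f : Set (PrimeSpectrum Γ(Z, V))) :=
    (s.finite_toSet.closure_biUnion (f := fun f : Γ(Z, V) => (PrimeSpectrum.basicOpen f : Set (PrimeSpectrum Γ(Z, V))))).subset hpD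
  obtain ⟨f, hfs, hpf⟩ := Set.mem_iUnion₂.1 hpD'
  obtain ⟨q, hq, hqp⟩ := exists_specializes_basicOpen f p hpf
  have hqD : q ∈ e ⁻¹' (D : Set Z) := by rw [hcover]; exact Set.mem_biUnion hfs hq
  exact ⟨e q, hqD, hp ▸ hqp.map e.continuous⟩

/-- A point of the closure of an open set has a generization in it when finitely many irreducible
components meet a neighbourhood. -/
theorem exists_specializes_of_finite_components {α : Type*} [TopologicalSpace α] [QuasiSober α] (z : α)
    (W : Set α) (hW : IsOpen W) (hzW : z ∈ W) (hfin : (irreducibleComponents W).Finite)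
    (D : Set α) (hD : IsOpen D) (hz : z ∈ closure D) : ∃ d ∈ D, d ⤳ z := by
  haveI : QuasiSober W := hW.isOpenEmbedding_subtypeVal.quasiSober
  let D' : Set W := Subtype.val ⁻¹' D
  have hz' : (⟨z, hzW⟩ : W) ∈ closure D' := by
    rw [← hW.isOpenEmbedding_subtypeVal.isOpenMap.preimage_closure_eq_closure_preimage continuous_subtype_val]
    exact hz
  have hD' : D' = ⋃ C ∈ irreducibleComponents W, C ∩ D' := by
    ext w
    simp only [Set.mem_iUnion, Set.mem_inter_iff, exists_prop]
    exact ⟨fun hw => ⟨irreducibleComponent w, irreducibleComponent_mem_irreducibleComponents w,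
      mem_irreducibleComponent, hw⟩, fun ⟨_, _, _, hw⟩ => hw⟩
  rw [hD', hfin.closure_biUnion] at hz'
  obtain ⟨C, hC, hzC⟩ := Set.mem_iUnion₂.1 hz'
  obtain ⟨w, hwC, hwD⟩ := closure_nonempty_iff.1 ⟨_, hzC⟩
  obtain ⟨η, hη⟩ := QuasiSober.sober hC.1 (isClosed_of_mem_irreducibleComponents C hC)
  have hzC' : (⟨z, hzW⟩ : W) ∈ C :=
    (closure_minimal Set.inter_subset_left (isClosed_of_mem_irreducibleComponents C hC)) hzC
  refine ⟨η.1, ?_, (hη.specializes hzC').map continuous_subtype_val⟩
  exact (hη.specializes hwC).mem_open (hD.preimage continuous_subtype_val) hwD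

/-- The preimage of an affine open with finitely many components under a finite étale map has finitely
many components. -/
theorem finite_components_preimage {X : Scheme.{u}} (g : Z ⟶ X) [IsFinite g] [Etale g] (V : X.Opens)
    (hV : (irreducibleComponents ↥V).Finite) : (irreducibleComponents ↥(g ⁻¹ᵁ V)).Finite := by
  let W := g ⁻¹ᵁ V
  haveI : IsFinite (g ∣_ V) := MorphismProperty.of_isPullback (isPullback_morphismRestrict g V).flip ‹_›
  haveI : Etale (g ∣_ V) := MorphismProperty.of_isPullback (isPullback_morphismRestrict g V).flip ‹_›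
  let h : (W : Scheme.{u}) ⟶ (V : Scheme.{u}) := g ∣_ V
  let M : Set ↥(V : Scheme.{u}) := ⋃ C ∈ irreducibleComponents ↥(V : Scheme.{u}), {v | IsGenericPoint v C}
  have hM : M.Finite :=
    hV.biUnion fun C _ => Set.Subsingleton.finite fun a ha b hb => IsGenericPoint.eq ha hb
  have hpre : (h ⁻¹' M).Finite := hM.preimage' fun b _ => h.finite_preimage_singleton b
  haveI : QuasiSober (W : Scheme.{u}) := inferInstance
  have hsub : irreducibleComponents ↥(W : Scheme.{u}) ⊆ (fun η => closure ({η} : Set ↥(W : Scheme.{u}))) '' (h ⁻¹' M) := by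
    intro C hC
    obtain ⟨η, hη⟩ := QuasiSober.sober hC.1 (isClosed_of_mem_irreducibleComponents C hC)
    refine ⟨η, ?_, hη⟩
    obtain ⟨ζ, hζ⟩ := QuasiSober.sober (isIrreducible_irreducibleComponent (x := h η)) isClosed_irreducibleComponent
    obtain ⟨η', hη', hη'e⟩ := (Flat.generalizingMap h) (hζ.specializes mem_irreducibleComponent)
    have hC' : closure ({η'} : Set ↥(W : Scheme.{u})) = C := by
      refine Set.Subset.antisymm ?_ ?_
      · exact hC.2 isIrreducible_singleton.closure (by
          rw [← hη]; exact closure_minimal (Set.singleton_subset_iff.2 hη'.mem_closure) isClosed_closure)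
      · rw [← hη]; exact closure_minimal (Set.singleton_subset_iff.2 hη'.mem_closure) isClosed_closure
    rw [Set.mem_preimage, show η = η' from hη.eq hC', hη'e]
    exact Set.mem_biUnion (irreducibleComponent_mem_irreducibleComponents (h η)) hζ
  exact (hpre.image _).subset hsub

end Groth.Agent.FFInfty25
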