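import Groth.Agent.Lib.FFInfty25.Gen
import Groth.Agent.Lib.FEtEq25.Graph
import Groth.Agent.Lib.TorsLift22.Lift
import Groth.Agent.Lib.LocAcyc24.SHPoint
import Groth.Agent.Lib.Hens.Henselization
import Groth.Agent.Lib.AbRigid.Isogeny

/-!
# Extension of clopens across points with connected punctured strict localisations
-/

set_option autoImplicit false
set_option linter.style.haveILetI false
set_option backward.isDefEq.respectTransparency false

universe u

open CategoryTheory Limits AlgebraicGeometry TopologicalSpace IsLocalRing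

namespace Groth.Agent.FFInfty25

/-- A point of a scheme finite étale over a separably closed field is rational. -/
theorem exists_rational_point {K : Type u} [Field K] [IsSepClosed K] {W : Scheme.{u}}
    (h : W ⟶ Spec (CommRingCat.of K)) [IsFinite h] [Etale h] (w : W) :
    ∃ c : Spec (CommRingCat.of K) ⟶ W, c ≫ h = 𝟙 _ ∧ c (closedPoint K) = w := by
  haveI : IsAffine W := isAffine_of_isAffineHom h
  let φ : CommRingCat.of K ⟶ Γ(W, ⊤) := Spec.preimage (W.isoSpec.inv ≫ h)
  have hφ : Spec.map φ = W.isoSpec.inv ≫ h := Spec.map_preimage _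
  letI : Algebra K Γ(W, ⊤) := φ.hom.toAlgebra
  haveI : Algebra.Etale K Γ(W, ⊤) := by
    have h' : Etale (Spec.map φ) := by rw [hφ]; infer_instance
    rw [HasRingHomProperty.Spec_iff (P := @Etale)] at h'
    exact h'
  haveI : Module.Finite K Γ(W, ⊤) := by
    have h' : IsFinite (Spec.map φ) := by rw [hφ]; infer_instance
    exact (IsFinite.SpecMap_iff _).1 h'
  let p : PrimeSpectrum Γ(W, ⊤) := W.isoSpec.hom w
  haveI : IsArtinianRing Γ(W, ⊤) := isArtinian_of_tower K inferInstance
  haveI : p.asIdeal.IsMaximal := IsArtinianRing.isMaximal_of_isPrime p.asIdeal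
  letI : Field (Γ(W, ⊤) ⧸ p.asIdeal) := Ideal.Quotient.field p.asIdeal
  haveI : Algebra.Etale K Γ(W, ⊤) := inferInstance
  haveI : Algebra.FormallyUnramified K (Γ(W, ⊤) ⧸ p.asIdeal) := Algebra.FormallyUnramified.comp K Γ(W, ⊤) _
  haveI : Algebra.EssFiniteType K (Γ(W, ⊤) ⧸ p.asIdeal) := inferInstance
  haveI : Algebra.IsSeparable K (Γ(W, ⊤) ⧸ p.asIdeal) := Algebra.FormallyUnramified.isSeparable K _
  have hbij : Function.Bijective (algebraMap K (Γ(W, ⊤) ⧸ p.asIdeal)) :=
    ⟨(algebraMap K _).injective, Hens.surjective_of_isSepClosed (algebraMap K (Γ(W, ⊤) ⧸ p.asIdeal))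
      (RingHom.id K) (RingHom.comp_id _)⟩
  let e : K ≃ₐ[K] Γ(W, ⊤) ⧸ p.asIdeal := AlgEquiv.ofBijective (Algebra.ofId K _) hbij
  let q : Γ(W, ⊤) →ₐ[K] K := e.symm.toAlgHom.comp (Ideal.Quotient.mkₐ K p.asIdeal)
  refine ⟨Spec.map (CommRingCat.ofHom q.toRingHom) ≫ W.isoSpec.inv, ?_, ?_⟩
  · rw [Category.assoc, ← hφ, ← Spec.map_comp, ← Spec.map_id]
    congr 1
    ext1
    exact q.comp_algebraMap
  · rw [Scheme.Hom.comp_apply]
    have hp : Spec.map (CommRingCat.ofHom q.toRingHom) (closedPoint K) = p := by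
      refine PrimeSpectrum.ext ?_
      show (closedPoint K).asIdeal.comap q.toRingHom = p.asIdeal
      ext a
      show q a ∈ maximalIdeal K ↔ a ∈ p.asIdeal
      rw [maximalIdeal_eq_bot, Ideal.mem_bot, ← Ideal.Quotient.eq_zero_iff_mem]
      exact map_eq_zero_iff e.symm e.symm.injective
    rw [hp]
    show (W.isoSpec.hom ≫ W.isoSpec.inv) w = w
    rw [Iso.hom_inv_id]; rfl

variable {X : Scheme.{u}}

/-- A strict localisation at the image of a point of an étale cover lifts to the cover at the point. -/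
theorem exists_flat_lift {Z : Scheme.{u}} (g : Z ⟶ X) [IsFinite g] [Etale g] (z : Z)
    (R : Type u) [CommRing R] [IsLocalRing R] [Algebra (X.presheaf.stalk (g z)) R]
    [IsLocalHom (algebraMap (X.presheaf.stalk (g z)) R)]
    [Hensel.IsStrictHenselization (X.presheaf.stalk (g z)) R] :
    ∃ h : Spec (CommRingCat.of R) ⟶ Z, Flat h ∧ h (closedPoint R) = z ∧
      h ≫ g = Hens2.specOf X (g z) R := by
  haveI : HenselianLocalRing R := Hensel.IsStrictHenselization.henselian (R := X.presheaf.stalk (g z))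
  haveI : IsSepClosed (ResidueField R) :=
    (Hensel.IsStrictHenselization.isSepClosure (R := X.presheaf.stalk (g z)) (S := R)).1
  let a : Spec (CommRingCat.of R) ⟶ X := Hens2.specOf X (g z) R
  haveI : Flat a := by
    have h1 : Flat (Spec.map (CommRingCat.ofHom (algebraMap (X.presheaf.stalk (g z)) R))) := by
      rw [HasRingHomProperty.Spec_iff (P := @Flat)]
      exact RingHom.flat_algebraMap_iff.2 (Hens.strictHenselization_flat (X.presheaf.stalk (g z)) R)
    haveI := AbRigid.flat_fromSpecStalk (X := X) (g z)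
    show Flat (Spec.map _ ≫ X.fromSpecStalk (g z))
    infer_instance
  let res : Spec (CommRingCat.of (ResidueField R)) ⟶ Spec (CommRingCat.of R) :=
    Spec.map (CommRingCat.ofHom (residue R))
  have hres : res (closedPoint (ResidueField R)) = closedPoint R := LocAcyc24.map_closedPoint (residue R)
  obtain ⟨w, hw, -⟩ := Scheme.Pullback.exists_preimage_pullback (f := g) (g := res ≫ a) z
    (closedPoint (ResidueField R)) (by
      rw [Scheme.Hom.comp_apply, hres]
      exact (LocAcyc24.specOf_closedPoint (X := X) (x := g z) (R := R)).symm)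
  haveI : IsFinite (pullback.snd g (res ≫ a)) := MorphismProperty.pullback_snd _ _ ‹IsFinite g›
  haveI : Etale (pullback.snd g (res ≫ a)) := MorphismProperty.pullback_snd _ _ ‹Etale g›
  obtain ⟨c, hc, hcw⟩ := exists_rational_point (pullback.snd g (res ≫ a)) w
  let q : pullback g a ⟶ Spec (CommRingCat.of R) := pullback.snd g a
  haveI : Etale q := MorphismProperty.pullback_snd _ _ ‹Etale g›
  let c' : Spec (CommRingCat.of (ResidueField R)) ⟶ pullback g a :=
    pullback.lift (c ≫ pullback.fst _ _) res (by rw [Category.assoc, pullback.condition, reassoc_of% hc])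
  obtain ⟨s, hs, hsc⟩ := TorsLift22.exists_section q c' (pullback.lift_snd _ _ _)
  haveI : Etale (s ≫ q) := by rw [hs]; infer_instance
  haveI : Etale s := Etale.of_comp s q
  haveI : Flat (pullback.fst g a) := MorphismProperty.pullback_fst _ _ ‹Flat a›
  refine ⟨s ≫ pullback.fst g a, inferInstance, ?_, ?_⟩
  · rw [← hres, ← Scheme.Hom.comp_apply, ← Category.assoc]
    erw [hsc]
    rw [pullback.lift_fst, Scheme.Hom.comp_apply, hcw, hw]
  · rw [Category.assoc, pullback.condition, ← Category.assoc, hs, Category.id_comp]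

/-- The closed point is the only point of a strict localisation over the given point. -/
theorem eq_closedPoint_of_specOf (x : X) (R : Type u) [CommRing R] [IsLocalRing R]
    [Algebra (X.presheaf.stalk x) R] [IsLocalHom (algebraMap (X.presheaf.stalk x) R)]
    [Hensel.IsStrictHenselization (X.presheaf.stalk x) R] (p : Spec (CommRingCat.of R))
    (hp : Hens2.specOf X x R p = x) : p = closedPoint R := by
  have h1 : Spec.map (CommRingCat.ofHom (algebraMap (X.presheaf.stalk x) R)) p = closedPoint (X.presheaf.stalk x) := by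
    refine (X.fromSpecStalk x).isEmbedding.injective ?_
    refine (Scheme.Hom.comp_apply _ (X.fromSpecStalk x) p).symm.trans ?_
    exact hp.trans Scheme.fromSpecStalk_closedPoint.symm
  have h2 : maximalIdeal R ≤ p.asIdeal := by
    rw [← Hens.strictHenselization_map_maximalIdeal (X.presheaf.stalk x) R, Ideal.map_le_iff_le_comap]
    intro r hr
    have h3 : (Spec.map (CommRingCat.ofHom (algebraMap (X.presheaf.stalk x) R)) p).asIdeal =
        maximalIdeal (X.presheaf.stalk x) := congrArg PrimeSpectrum.asIdeal h1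
    rw [← h3] at hr
    exact hr
  exact PrimeSpectrum.ext (((maximalIdeal.isMaximal R).eq_of_le p.isPrime.ne_top h2).symm)

/-- Clopens of the part of an étale cover over a dense open extend. -/
theorem exists_clopen_extend (U : X.Opens) (hU : Dense (U : Set X))
    (hsh : ∀ x : X, x ∉ U → ∀ (R : Type u) [CommRing R] [IsLocalRing R] [Algebra (X.presheaf.stalk x) R]
      [IsLocalHom (algebraMap (X.presheaf.stalk x) R)] [Hensel.IsStrictHenselization (X.presheaf.stalk x) R],
      ConnectedSpace (FEt.puncturedSpec R : Scheme.{u}))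
    {Z : Scheme.{u}} (g : Z ⟶ X) [IsFinite g] [Etale g]
    (hgen : ∀ D : Set Z, IsOpen D → (∀ z, g z ∈ U → z ∈ closure D → z ∈ D) → D ⊆ g ⁻¹' (U : Set X) →
      ∀ z ∈ closure D, ∃ d ∈ D, d ⤳ z)
    (C : Set ↥(pullback g U.ι)) (hC : IsClopen C) :
    ∃ D : Set Z, IsClopen D ∧ pullback.fst g U.ι ⁻¹' D = C := by
  let j : pullback g U.ι ⟶ Z := pullback.fst g U.ι
  let D₀ : Set Z := j '' C
  let D₁ : Set Z := j '' Cᶜ
  have hjr : Set.range j = g ⁻¹' (U : Set X) := by
    rw [Scheme.Pullback.range_fst, Scheme.Opens.range_ι]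
  have ho₀ : IsOpen D₀ := j.isOpenEmbedding.isOpenMap _ hC.2
  have ho₁ : IsOpen D₁ := j.isOpenEmbedding.isOpenMap _ hC.compl.2
  have hdisj : Disjoint D₀ D₁ := (Set.disjoint_image_iff j.isOpenEmbedding.injective).2 disjoint_compl_right
  have hunion : D₀ ∪ D₁ = g ⁻¹' (U : Set X) := by
    rw [← Set.image_union, Set.union_compl_self, Set.image_univ, hjr]
  have hdense : closure D₀ ∪ closure D₁ = Set.univ := by
    rw [← closure_union, hunion]
    exact (hU.preimage g.isOpenMap).closure_eq
  have hrel₀ : ∀ z, g z ∈ U → z ∈ closure D₀ → z ∈ D₀ := fun z hz hzc => by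
    rcases (hunion.symm.subset (show z ∈ g ⁻¹' (U : Set X) from hz)) with h | h
    · exact h
    · exact absurd hzc fun hzc => (hdisj.closure_left ho₁).le_bot ⟨hzc, h⟩
  have hrel₁ : ∀ z, g z ∈ U → z ∈ closure D₁ → z ∈ D₁ := fun z hz hzc => by
    rcases (hunion.symm.subset (show z ∈ g ⁻¹' (U : Set X) from hz)) with h | h
    · exact absurd hzc fun hzc => (hdisj.closure_right ho₀).le_bot ⟨h, hzc⟩
    · exact h
  have hB : closure D₀ ∩ closure D₁ = ∅ := by
    by_contra hne
    obtain ⟨z₀, hz₀⟩ := Set.nonempty_iff_ne_empty.2 hne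
    let B : Set Z := closure D₀ ∩ closure D₁
    have hBc : IsClosed B := isClosed_closure.inter isClosed_closure
    haveI : QuasiSober B := hBc.isClosedEmbedding_subtypeVal.quasiSober
    obtain ⟨η, hη⟩ := QuasiSober.sober (isIrreducible_irreducibleComponent (x := (⟨z₀, hz₀⟩ : B)))
      isClosed_irreducibleComponent
    let y : Z := η.1
    have hmax : ∀ b ∈ B, b ⤳ y → b = y := fun b hb hby => by
      have h1 : (⟨b, hb⟩ : B) ⤳ η := (subtype_specializes_iff _ _).2 hby
      have h2 : closure ({(⟨b, hb⟩ : B)} : Set B) ⊆ irreducibleComponent (⟨z₀, hz₀⟩ : B) :=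
        (irreducibleComponent_mem_irreducibleComponents (⟨z₀, hz₀⟩ : B)).2 isIrreducible_singleton.closure (by
          rw [← hη]
          exact closure_minimal (Set.singleton_subset_iff.2 h1.mem_closure) isClosed_closure)
      exact congrArg Subtype.val ((hη.specializes (h2 (subset_closure rfl))).antisymm h1).eq.symm
    have hyU : g y ∉ U := fun h => hdisj.le_bot ⟨hrel₀ y h η.2.1, hrel₁ y h η.2.2⟩
    obtain ⟨d₀, hd₀, hd₀y⟩ := hgen D₀ ho₀ hrel₀ (hunion ▸ Set.subset_union_left) y η.2.1
    obtain ⟨d₁, hd₁, hd₁y⟩ := hgen D₁ ho₁ hrel₁ (hunion ▸ Set.subset_union_right) y η.2.2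
    let R := Hens.Hsh (X.presheaf.stalk (g y))
    obtain ⟨h, hflat, hhy, hhg⟩ := exists_flat_lift g y R
    haveI := hflat
    have hgd : ∀ d : Z, d ⤳ y → d ∈ g ⁻¹' (U : Set X) → ∃ p, p ≠ closedPoint R ∧ h p = d := fun d hd hdU => by
      obtain ⟨p, -, hp⟩ := Flat.generalizingMap h (hhy ▸ hd)
      refine ⟨p, fun e => hyU ?_, hp⟩
      rw [← hhy, ← e, hp]
      exact hdU
    haveI : PreconnectedSpace ↥(FEt.puncturedSpec R) := (hsh (g y) hyU R).toPreconnectedSpace
    have hP : ∀ p : ↥(FEt.puncturedSpec R), h p.1 ∈ closure D₀ ↔ ¬ h p.1 ∈ closure D₁ := fun p => by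
      refine ⟨fun h₀ h₁ => ?_, fun h₁ => ?_⟩
      · have hspec : h p.1 ⤳ y :=
          (((PrimeSpectrum.le_iff_specializes p.1 (closedPoint R)).1
            (le_maximalIdeal p.1.isPrime.ne_top)).map h.continuous).trans (specializes_of_eq hhy)
        have := hmax _ ⟨h₀, h₁⟩ hspec
        refine p.2 (eq_closedPoint_of_specOf (g y) R p.1 ?_)
        rw [← hhg, Scheme.Hom.comp_apply, this]
      · rcases hdense.ge (Set.mem_univ (h p.1)) with h₀ | h₀
        · exact h₀
        · exact absurd h₀ h₁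
    let f : ↥(FEt.puncturedSpec R) → Z := fun p => h p.1
    have hfc : Continuous f := h.continuous.comp continuous_subtype_val
    have hA : IsClopen (f ⁻¹' closure D₀) := by
      refine ⟨isClosed_closure.preimage hfc, ?_⟩
      rw [show f ⁻¹' closure D₀ = (f ⁻¹' closure D₁)ᶜ from Set.ext hP]
      exact (isClosed_closure.preimage hfc).isOpen_compl
    obtain ⟨p₀, hp₀, hp₀e⟩ := hgd d₀ hd₀y (hunion ▸ Or.inl hd₀)
    obtain ⟨p₁, hp₁, hp₁e⟩ := hgd d₁ hd₁y (hunion ▸ Or.inr hd₁)
    have hu := hA.eq_univ ⟨⟨p₀, hp₀⟩, show h p₀ ∈ closure D₀ from hp₀e ▸ subset_closure hd₀⟩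
    have h₀ : h p₁ ∈ closure D₀ := hu.ge (Set.mem_univ (⟨p₁, hp₁⟩ : ↥(FEt.puncturedSpec R)))
    exact (hP ⟨p₁, hp₁⟩).1 h₀ (show h p₁ ∈ closure D₁ from hp₁e ▸ subset_closure hd₁)
  refine ⟨closure D₀, ⟨isClosed_closure, ?_⟩, ?_⟩
  · rw [show closure D₀ = (closure D₁)ᶜ from
      Set.Subset.antisymm (fun z h h' => (hB.subset ⟨h, h'⟩ : z ∈ (∅ : Set Z)))
        (fun z h => (hdense.ge (Set.mem_univ z)).resolve_right h)]
    exact isClosed_closure.isOpen_compl
  · ext w
    refine ⟨fun hw => ?_, fun hw => subset_closure ⟨w, hw, rfl⟩⟩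
    obtain ⟨w', hw', he⟩ := hrel₀ (j w) (hjr.subset ⟨w, rfl⟩) hw
    exact j.isOpenEmbedding.injective he ▸ hw'

/-- Full faithfulness from the two kinds of connectedness at infinity. -/
theorem fullyFaithful (U : X.Opens) (hU : Dense (U : Set X))
    (hsh : ∀ x : X, x ∉ U → ∀ (R : Type u) [CommRing R] [IsLocalRing R] [Algebra (X.presheaf.stalk x) R]
      [IsLocalHom (algebraMap (X.presheaf.stalk x) R)] [Hensel.IsStrictHenselization (X.presheaf.stalk x) R],
      ConnectedSpace (FEt.puncturedSpec R : Scheme.{u}))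
    (hgen : ∀ {Z : Scheme.{u}} (g : Z ⟶ X) [IsFinite g] [Etale g] (D : Set Z), IsOpen D →
      (∀ z, g z ∈ U → z ∈ closure D → z ∈ D) → D ⊆ g ⁻¹' (U : Set X) → ∀ z ∈ closure D, ∃ d ∈ D, d ⤳ z) :
    (FEt.restrict U.ι).Full ∧ (FEt.restrict U.ι).Faithful := by
  have hT : ∀ S : Set X, IsClopen S → S.Nonempty → (S ∩ Set.range U.ι).Nonempty := by
    intro S hS hne
    rw [Scheme.Opens.range_ι]
    exact hU.inter_open_nonempty S hS.2 hne
  refine ⟨FEtEq25.full_restrict _ hT ?_, FEtEq25.faithful_restrict _ hT⟩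
  intro Z g hg C hC
  haveI : IsFinite g := hg.1
  haveI : Etale g := hg.2
  exact exists_clopen_extend U hU hsh g (fun D => hgen g D) C hC

/-- The clopen part over a retrocompact open is retrocompact. -/
theorem gen_of_quasiCompact (U : X.Opens) [QuasiCompact U.ι] {Z : Scheme.{u}} (g : Z ⟶ X) [IsFinite g]
    (D : Set Z) (hD : IsOpen D) (hrel : ∀ z, g z ∈ U → z ∈ closure D → z ∈ D) (hsub : D ⊆ g ⁻¹' (U : Set X))
    (z : Z) (hz : z ∈ closure D) : ∃ d ∈ D, d ⤳ z := by
  let D' : Z.Opens := ⟨D, hD⟩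
  haveI : QuasiCompact D'.ι := by
    let j : pullback g U.ι ⟶ Z := pullback.fst g U.ι
    haveI : QuasiCompact j := MorphismProperty.pullback_fst _ _ ‹QuasiCompact U.ι›
    let C : (pullback g U.ι).Opens := ⟨j ⁻¹' D, hD.preimage j.continuous⟩
    have hCc : IsClosed (C : Set ↥(pullback g U.ι)) := by
      have : (C : Set ↥(pullback g U.ι)) = j ⁻¹' closure D := Set.Subset.antisymm
        (fun w hw => subset_closure hw) fun w hw => hrel _ (by
          have : j w ∈ Set.range j := ⟨w, rfl⟩
          rw [Scheme.Pullback.range_fst, Scheme.Opens.range_ι] at this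
          exact this) hw
      rw [this]; exact isClosed_closure.preimage j.continuous
    haveI : IsClosedImmersion C.ι := .of_isPreimmersion _ (by rw [Scheme.Opens.range_ι]; exact hCc)
    have hr : Set.range (C.ι ≫ j) = D := by
      rw [Scheme.Hom.comp_base, TopCat.coe_comp, Set.range_comp, Scheme.Opens.range_ι]
      refine (Set.image_preimage_eq_inter_range).trans (Set.inter_eq_left.2 ?_)
      rw [Scheme.Pullback.range_fst, Scheme.Opens.range_ι]; exact hsub
    have e : D'.ι = (IsOpenImmersion.isoOfRangeEq (C.ι ≫ j) D'.ι (by rw [hr, Scheme.Opens.range_ι]; rfl)).inv ≫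
        C.ι ≫ j := (IsOpenImmersion.isoOfRangeEq_inv_fac _ _ _).symm
    rw [e]; infer_instance
  exact exists_specializes_retrocompact D' z hz

/-- The local finiteness of components gives generizations. -/
theorem gen_of_finite_components (hirr : ∀ V : X.Opens, IsCompact (V : Set X) → (irreducibleComponents ↥V).Finite)
    {Z : Scheme.{u}} (g : Z ⟶ X) [IsFinite g] [Etale g] (D : Set Z) (hD : IsOpen D)
    (z : Z) (hz : z ∈ closure D) : ∃ d ∈ D, d ⤳ z := by
  obtain ⟨V, hV, hzV, -⟩ := exists_isAffineOpen_mem_and_subset (X := X) (x := g z) (U := ⊤) trivial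
  exact exists_specializes_of_finite_components z (g ⁻¹ᵁ V : Z.Opens) (g ⁻¹ᵁ V).isOpen hzV
    (finite_components_preimage g V (hirr V hV.isCompact)) D hD hz

end Groth.Agent.FFInfty25
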